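import Cfsg.Agent.H258.TC.Co2
import Cfsg.Agent.H210.TC.Row

/-!
# `Row3` (S4173, S2464, S2452) for `Co2` (helper258)

* `row3_of_inv` : if every `g ≠ 1` is `(u x u⁻¹) (v x⁻¹ v⁻¹)` and `x⁻¹` is a product of two conjugates of `x`, then `Row3`;
* `inv_of_two` : if all elements of order `p` are conjugate to `x` or `x⁻¹` and `i ^ 2 + j ^ 2 + 1` is a multiple of `p`, then
  `x⁻¹` is a product of two conjugates of `x`;
* `row3_co2` : the row of `Co2`.
-/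

set_option autoImplicit false

namespace Cfsg.Agent.H258.TC

open Cfsg

/-- the form `(x, x⁻¹)` -/
theorem row3_of_inv {S : Type*} [Group S] {x : S} (hx : (orderOf x).Prime) (hx6 : Nat.Coprime (orderOf x) 6)
    (h : ∀ g : S, g ≠ 1 → ∃ u v : S, g = (u * x * u⁻¹) * (v * x⁻¹ * v⁻¹))
    (hi : ∃ u v : S, x⁻¹ = (u * x * u⁻¹) * (v * x * v⁻¹)) : H210.TC.Row3 S := by
  obtain ⟨u', v', e'⟩ := hi
  refine ⟨x, x⁻¹, hx, hx6, by rwa [orderOf_inv], by rwa [orderOf_inv], h, fun g => ?_⟩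
  have key : ∀ v : S, v * x⁻¹ * v⁻¹ = (v * u' * x * (v * u')⁻¹) * (v * v' * x * (v * v')⁻¹) := by
    intro v
    rw [e']
    group
  by_cases hg : g = 1
  · refine ⟨1, u', v', ?_⟩
    rw [mul_assoc, ← e', hg]
    group
  · obtain ⟨u, v, e⟩ := h g hg
    exact ⟨u, v * u', v * v', by rw [mul_assoc, ← key v]; exact e⟩

/-- `x ^ (k ^ 2)` is conjugate to `x` -/
theorem conj_sq {S : Type*} [Group S] {x : S} {p : ℕ} (hp : p.Prime) (hx : orderOf x = p)
    (h2 : ∀ g : S, orderOf g = p → IsConj x g ∨ IsConj x⁻¹ g) {k : ℕ} (hk : Nat.Coprime p k) : IsConj x (x ^ (k ^ 2)) := by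
  have ho : orderOf (x ^ k) = p := by
    rw [orderOf_pow' x (by rintro rfl; rw [Nat.coprime_zero_right] at hk; exact hp.ne_one hk), hx, hk, Nat.div_one]
  rcases h2 (x ^ k) ho with h | h
  · obtain ⟨c, hc⟩ := isConj_iff.1 h
    refine isConj_iff.2 ⟨c * c, ?_⟩
    rw [pow_two, pow_mul, ← hc, conj_pow, ← hc]
    group
  · obtain ⟨c, hc⟩ := isConj_iff.1 h
    refine isConj_iff.2 ⟨c * c, ?_⟩
    rw [pow_two, pow_mul, ← hc, conj_pow, inv_pow, ← hc]
    group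

/-- `x⁻¹` is a product of two conjugates of `x` -/
theorem inv_of_two {S : Type*} [Group S] {x : S} {p : ℕ} (hp : p.Prime) (hx : orderOf x = p)
    (h2 : ∀ g : S, orderOf g = p → IsConj x g ∨ IsConj x⁻¹ g) {i j : ℕ} (hi : Nat.Coprime p i) (hj : Nat.Coprime p j)
    (hij : p ∣ i ^ 2 + j ^ 2 + 1) : ∃ u v : S, x⁻¹ = (u * x * u⁻¹) * (v * x * v⁻¹) := by
  obtain ⟨u, hu⟩ := isConj_iff.1 (conj_sq hp hx h2 hi)
  obtain ⟨v, hv⟩ := isConj_iff.1 (conj_sq hp hx h2 hj)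
  refine ⟨u, v, ?_⟩
  rw [hu, hv, ← pow_add, inv_eq_iff_mul_eq_one, ← pow_succ']
  exact orderOf_dvd_iff_pow_eq_one.1 (by rw [hx]; exact hij)

/-- two classes of order `p`, one the inverse of the other, and the product table -/
theorem row3_of_two {S : Type*} [Group S] {x : S} {p : ℕ} (hp : p.Prime) (h6 : Nat.Coprime p 6) (hx : orderOf x = p)
    (h2 : ∀ g : S, orderOf g = p → IsConj x g ∨ IsConj x⁻¹ g) {i j : ℕ} (hi : Nat.Coprime p i) (hj : Nat.Coprime p j)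
    (hij : p ∣ i ^ 2 + j ^ 2 + 1) (h : ∀ g : S, g ≠ 1 → ∃ u v : S, g = (u * x * u⁻¹) * (v * x⁻¹ * v⁻¹)) :
    H210.TC.Row3 S :=
  row3_of_inv (by rwa [hx]) (by rwa [hx]) h (inv_of_two hp hx h2 hi hj hij)

/-- **the row `Co2` of S4173, S2464, S2452** -/
theorem row3_co2 {S : Type*} [Group S] (h : Spor.IsoCo2 S) : H210.TC.Row3 S := by
  obtain ⟨e⟩ := h
  obtain ⟨a, ha⟩ := exists23
  refine H210.TC.Row3.of_equiv e (row3_of_two (p := 23) (i := 2) (j := 8) (by norm_num) (by norm_num) ha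
    (fun g hg => ?_) (by norm_num) (by norm_num) (by norm_num) fun g hg => prd23 ha hg)
  have h1 := ord23 ha
  have h2 := ord23 hg
  rcases h1 with h1 | h1 <;> rcases h2 with h2 | h2
  · exact Or.inl (h1.symm.trans h2)
  · refine Or.inr (IsConj.trans ?_ h2)
    obtain ⟨c, hc⟩ := isConj_iff.1 h1
    exact isConj_iff.2 ⟨c⁻¹, by rw [← hc]; group⟩
  · refine Or.inr (IsConj.trans ?_ h2)
    obtain ⟨c, hc⟩ := isConj_iff.1 h1
    exact isConj_iff.2 ⟨c⁻¹, by rw [← hc]; group⟩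
  · exact Or.inl (h1.symm.trans h2)

end Cfsg.Agent.H258.TC
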