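import Cfsg.Agent.H258.TC.Co2
import Cfsg.Agent.H903.TC.Baby

/-!
# The table of `Co2` in the form of helper903 (helper258)
-/

set_option autoImplicit false

namespace Cfsg.Agent.H258.TC

open Cfsg

theorem c23 : Cfsg.Agent.H903.TC.C23 := by
  intro l hl
  obtain ⟨a, ha⟩ := exists23
  obtain ⟨u, v, e⟩ := prd23 ha hl
  refine ⟨u * a * u⁻¹, v * u⁻¹, ?_, ?_⟩
  · rw [← ha]
    exact MulEquiv.orderOf_eq (MulAut.conj u) a
  · rw [e]; group

end Cfsg.Agent.H258.TC
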