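import Cfsg.Agent.H258.TwoB.Link
import Cfsg.Agent.H633.Ore.Co2Ore
import Cfsg.Agent.H140.TC.Fam

/-!
# `Co2` is covered by two fixed classes of elements of order 23 (helper258)

* `ord23` : every element of order 23 is conjugate to `r` or `r⁻¹`, `r` one fixed word;
* `prd23` : for every `a` of order 23 and every `g ≠ 1` : `g = (u a u⁻¹) (v a⁻¹ v⁻¹)`;
* `tc_co2` : the row of `Co2`.
-/

set_option autoImplicit false
set_option maxRecDepth 1000000

namespace Cfsg.Agent.H258.TC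

open Cfsg Cfsg.Agent.H633.Ore Cfsg.Agent.H68.Ore.Words Cfsg.Agent.H612.Ore.CoTwo23
open Cfsg.Agent.H258.TwoB (pwZ pwL pwZ_eq rp_pw)

/-- `g` is a product of a conjugate of `a` and a conjugate of `a⁻¹` -/
def Prd {G : Type*} [Group G] (a g : G) : Prop := ∃ u v : G, g = (u * a * u⁻¹) * (v * a⁻¹ * v⁻¹)

theorem Prd.conj {G : Type*} [Group G] {a g : G} (h : Prd a g) (x : G) : Prd a (x * g * x⁻¹) := by
  obtain ⟨u, v, rfl⟩ := h
  exact ⟨x * u, x * v, by group⟩

theorem Prd.inv {G : Type*} [Group G] {a g : G} (h : Prd a g) : Prd a g⁻¹ := by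
  obtain ⟨u, v, rfl⟩ := h
  exact ⟨v, u, by group⟩

theorem Prd.of_comm {G : Type*} [Group G] {a A B : G} (h : (∃ x, A = x * a * x⁻¹) ∨ ∃ x, A = x * a⁻¹ * x⁻¹) :
    Prd a (A * B * A⁻¹ * B⁻¹) := by
  rcases h with ⟨x, rfl⟩ | ⟨x, rfl⟩
  · exact ⟨x, B * x, by group⟩
  · refine ⟨x * a⁻¹ * x⁻¹ * B * x, x, ?_⟩
    group

/-- the word of order 23 -/
def p50 : List ℕ × List ℕ := Cfsg.Agent.H68.Ore.Co2Words.L.getD 50 ([], [])

/-- the other words -/
def L' : List (List ℕ × List ℕ) := Cfsg.Agent.H68.Ore.Co2Words.L.filter fun p => !(p == ([], [])) && !(p == p50)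

/-- check of `r ^ 23 ≠ 1` -/
noncomputable def chk23 (gs : ℕ → List ℕ) (id : List ℕ) (L : List (List ℕ × List ℕ)) : Bool :=
  List.rec true (fun p _ ih => wF gs (cw p).reverse id fun R => pwZ R 23 id fun X =>
    cond (Nat.beq (linL X 1) 1) false ih) L

theorem mem_L' {p : List ℕ × List ℕ} (hp : p ∈ Cfsg.Agent.H68.Ore.Co2Words.L) : p = ([], []) ∨ p = p50 ∨ p ∈ L' := by
  by_cases h1 : p = ([], [])
  · exact Or.inl h1
  by_cases h2 : p = p50
  · exact Or.inr (Or.inl h2)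
  right; right
  rw [L', List.mem_filter]
  refine ⟨hp, ?_⟩
  simp [h1, h2]

section

variable {G : Type*} [Group G] {Y : Type*} [MulAction G Y] (M : Mdl G Y) {tt : ℕ → G} {gs : ℕ → List ℕ}

theorem sound23 (hgs : ∀ k, M.Rp (gs k) (tt k)) (hy : ∃ y : Y, M.cd y = 1) : ∀ L : List (List ℕ × List ℕ),
    chk23 gs (idL M.w) L = true → ∀ p ∈ L, wd tt (cw p) ^ 23 ≠ 1 := by
  intro L
  induction L with
  | nil => intro _ p hp; exact absurd hp List.not_mem_nil
  | cons q L ih =>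
    intro h p hp
    have h' : (wF gs (cw q).reverse (idL M.w) fun R => pwZ R 23 (idL M.w) fun X =>
      cond (Nat.beq (linL X 1) 1) false (chk23 gs (idL M.w) L)) = true := h
    rw [wF_eq, pwZ_eq] at h'
    cases h1 : Nat.beq (linL (pwL (mW gs (cw q).reverse (idL M.w)) 23 (idL M.w)) 1) 1
    swap
    · rw [h1] at h'; exact absurd h' Bool.false_ne_true
    rw [h1, cond_false] at h'
    rcases List.mem_cons.1 hp with h2 | h2
    · subst h2
      intro hr
      obtain ⟨y, hy⟩ := hy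
      have h8 := rp_pw M (rp_wd M hgs (cw p)) 23 y
      rw [hr, one_smul, hy] at h8
      rw [← h8] at h1
      exact absurd h1 (by decide)
    · exact ih h' p h2

/-- soundness of the table of helper612, with the first member of order 23 -/
theorem soundI (hgs : ∀ k, M.Rp (gs k) (tt k)) (htt : ∀ k, tt k * tt k = 1) (hy : ∃ y : Y, M.cd y = 1) {a b A B : List ℕ}
    (h : chkI gs (idL M.w) a b A B = true) : ∃ A B : G, wd tt (cw (a, b)) = A * B * A⁻¹ * B⁻¹ ∧ orderOf A = 23 := by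
  unfold chkI at h
  rw [wF_eq, wF_eq, wF_eq] at h
  cases h1 : beqL (mW gs (cw (a, b)).reverse (idL M.w)) (mW gs (cw (A, B)).reverse (idL M.w))
  · rw [h1] at h; exact absurd h Bool.false_ne_true
  rw [h1] at h
  have h1 := eq_of_beqL h1
  have e1 : wd tt (cw (a, b)) = wd tt (cw (A, B)) := by
    refine eq_of_rp M (rp_wd M hgs _) ?_
    rw [h1]
    exact rp_wd M hgs _
  have hX := rp_wd M hgs A
  generalize mW gs A.reverse (idL M.w) = X at h hX
  cases h2 : Nat.beq (linL X 1) 1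
  swap
  · rw [h2] at h; exact absurd h Bool.false_ne_true
  rw [h2] at h
  obtain ⟨X', e3, h3⟩ := rp_pow M hX (β := Bool) fun X23 => beqL X23 (idL M.w)
  have h4 : beqL X' (idL M.w) = true := by rw [← e3]; exact h
  have h5 : (wd tt A) ^ 23 = 1 := by
    refine eq_of_rp M h3 ?_
    rw [eq_of_beqL h4]
    exact Mdl.Rp.one M
  have h6 : wd tt A ≠ 1 := by
    intro h7
    obtain ⟨y, hy⟩ := hy
    have h8 := hX y
    rw [h7, one_smul, hy] at h8
    rw [← h8] at h2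
    exact absurd h2 (by decide)
  have : Fact (Nat.Prime 23) := ⟨by norm_num⟩
  exact ⟨wd tt A, wd tt B, by rw [e1, wd_cw htt], orderOf_eq_prime h5 h6⟩

/-- all elements of order 23 are conjugate to one word or its inverse -/
theorem ord_of (hgs : ∀ k, M.Rp (gs k) (tt k)) (hy : ∃ y : Y, M.cd y = 1) (h23 : chk23 gs (idL M.w) L' = true)
    (hc : ∀ g : G, ∃ w ∈ Cfsg.Agent.H68.Ore.Co2Words.L.map cw, IsConj (wd tt w) g ∨ IsConj (wd tt w)⁻¹ g) {g : G}
    (hg : orderOf g = 23) : IsConj (wd tt (cw p50)) g ∨ IsConj (wd tt (cw p50))⁻¹ g := by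
  obtain ⟨w, hw, h⟩ := hc g
  obtain ⟨p, hp, rfl⟩ := List.mem_map.1 hw
  have hor : orderOf (wd tt (cw p)) = 23 := by
    rw [← hg]
    rcases h with h | h
    · obtain ⟨x, rfl⟩ := isConj_iff.1 h
      exact (MulEquiv.orderOf_eq (MulAut.conj x) (wd tt (cw p))).symm
    · obtain ⟨x, rfl⟩ := isConj_iff.1 h
      rw [← orderOf_inv (wd tt (cw p))]
      exact (MulEquiv.orderOf_eq (MulAut.conj x) (wd tt (cw p))⁻¹).symm
  rcases mem_L' hp with h1 | h1 | h1
  · exfalso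
    have h2 : wd tt (cw p) = 1 := by rw [h1]; rfl
    rw [h2, orderOf_one] at hor
    norm_num at hor
  · rw [← h1]; exact h
  · exfalso
    refine sound23 M hgs hy L' h23 p h1 ?_
    rw [← hor]
    exact pow_orderOf_eq_one _

/-- **two fixed classes of order 23** -/
theorem prd_of (hgs : ∀ k, M.Rp (gs k) (tt k)) (htt : ∀ k, tt k * tt k = 1) (hy : ∃ y : Y, M.cd y = 1)
    (hT : chkAll gs (idL M.w) T = true) (h23 : chk23 gs (idL M.w) L' = true)
    (hc : ∀ g : G, ∃ w ∈ Cfsg.Agent.H68.Ore.Co2Words.L.map cw, IsConj (wd tt w) g ∨ IsConj (wd tt w)⁻¹ g) {a : G}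
    (ha : orderOf a = 23) {g : G} (hg : g ≠ 1) : Prd a g := by
  have key : ∀ T : List (List ℕ × List ℕ × List ℕ × List ℕ), chkAll gs (idL M.w) T = true → ∀ t ∈ T,
      chkI gs (idL M.w) t.1 t.2.1 t.2.2.1 t.2.2.2 = true := by
    intro T
    induction T with
    | nil => intro _ t ht; exact absurd ht List.not_mem_nil
    | cons s T ih =>
      intro h t ht
      have h' : cond (chkI gs (idL M.w) s.1 s.2.1 s.2.2.1 s.2.2.2) (chkAll gs (idL M.w) T) false = true := h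
      cases h1 : chkI gs (idL M.w) s.1 s.2.1 s.2.2.1 s.2.2.2
      · rw [h1] at h'; exact absurd h' Bool.false_ne_true
      · rw [h1] at h'
        rcases List.mem_cons.1 ht with h2 | h2
        · rw [h2]; exact h1
        · exact ih h' t h2
  have hcl : ∀ A : G, orderOf A = 23 → (∃ x, A = x * a * x⁻¹) ∨ ∃ x, A = x * a⁻¹ * x⁻¹ := by
    intro A hA
    generalize hr : wd tt (cw p50) = r
    have h1 := ord_of M hgs hy h23 hc ha
    have h2 := ord_of M hgs hy h23 hc hA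
    rw [hr] at h1 h2
    rcases h1 with h1 | h1 <;> rcases h2 with h2 | h2 <;> obtain ⟨x, hx⟩ := isConj_iff.1 h1 <;>
      obtain ⟨y, hy⟩ := isConj_iff.1 h2
    · left; exact ⟨y * x⁻¹, by rw [← hx, ← hy]; group⟩
    · right; exact ⟨y * x⁻¹, by rw [← hx, ← hy]; group⟩
    · right; exact ⟨y * x⁻¹, by rw [← hx, ← hy]; group⟩
    · left; exact ⟨y * x⁻¹, by rw [← hx, ← hy]; group⟩
  obtain ⟨w, hw, hg'⟩ := hc g
  obtain ⟨p, hp, rfl⟩ := List.mem_map.1 hw
  have h3 : Prd a (wd tt (cw p)) := by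
    rcases T_L p hp with h1 | ⟨t, ht, h1⟩
    · exfalso
      have h2 : wd tt (cw p) = 1 := by rw [h1]; rfl
      rw [h2] at hg'
      apply hg
      rcases hg' with hg' | hg'
      · rwa [isConj_one_right] at hg'
      · rwa [inv_one, isConj_one_right] at hg'
    · obtain ⟨A, B, e, hA⟩ := soundI M hgs htt hy (key T hT t ht)
      rw [h1] at e
      rw [e]
      exact Prd.of_comm (hcl A hA)
  rcases hg' with h | h
  · obtain ⟨x, rfl⟩ := isConj_iff.1 h
    exact h3.conj x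
  · obtain ⟨x, rfl⟩ := isConj_iff.1 h
    exact h3.inv.conj x

end

/-! ### `Co2` -/

theorem chkAll_ok : chkAll Co2.GG (idL 22) T = true := by decide +kernel

theorem chk23_ok : chk23 Co2.GG (idL 22) L' = true := by decide +kernel

theorem cover' (g : Spor.Co2) : ∃ w ∈ Cfsg.Agent.H68.Ore.Co2Words.L.map cw,
    IsConj (wd Co2.tt w) g ∨ IsConj (wd Co2.tt w)⁻¹ g := by
  obtain ⟨w, hw, h⟩ := Co2.cover g
  exact ⟨w, by rw [← Co2.reps_cw]; exact hw, h⟩

/-- all elements of order 23 of `Co2` are conjugate to one element or its inverse -/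
theorem ord23 {g : Spor.Co2} (hg : orderOf g = 23) :
    IsConj (wd Co2.tt (cw p50)) g ∨ IsConj (wd Co2.tt (cw p50))⁻¹ g :=
  ord_of Co2.M Co2.rpG TwoB.exists_y chk23_ok cover' hg

/-- **every `g ≠ 1` of `Co2` is `(u a u⁻¹) (v a⁻¹ v⁻¹)`, for every `a` of order 23** -/
theorem prd23 {a : Spor.Co2} (ha : orderOf a = 23) {g : Spor.Co2} (hg : g ≠ 1) :
    ∃ u v : Spor.Co2, g = (u * a * u⁻¹) * (v * a⁻¹ * v⁻¹) :=
  prd_of Co2.M Co2.rpG Co2.tt_sq TwoB.exists_y chkAll_ok chk23_ok cover' ha hg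

theorem exists23 : ∃ a : Spor.Co2, orderOf a = 23 := by
  have h : ∀ t ∈ T, chkI Co2.GG (idL 22) t.1 t.2.1 t.2.2.1 t.2.2.2 = true → ∃ a : Spor.Co2, orderOf a = 23 := by
    intro t _ h
    obtain ⟨A, B, -, hA⟩ := soundI Co2.M Co2.rpG Co2.tt_sq TwoB.exists_y h
    exact ⟨A, hA⟩
  have h1 : ∃ t ∈ T, chkI Co2.GG (idL 22) t.1 t.2.1 t.2.2.1 t.2.2.2 = true :=
    ⟨([2], [0], [0, 1, 2, 1, 2, 0, 2, 0, 2, 1, 2, 1, 2, 0, 2, 0, 2, 1], [2]), by decide, by decide +kernel⟩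
  obtain ⟨t, ht, h2⟩ := h1
  exact h t ht h2

/-- **the row `Co2` of S4173** -/
theorem tc_co2 {S : Type*} [Group S] (h : Spor.IsoCo2 S) : Cfsg.Agent.H140.TC.TC S := by
  obtain ⟨e⟩ := h
  obtain ⟨a, ha⟩ := exists23
  exact Cfsg.Agent.H140.TC.TC.of_equiv e ⟨a, a⁻¹, fun g hg => prd23 ha hg⟩

end Cfsg.Agent.H258.TC
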